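import Mathlib
import Groth.Agent.GrT.QCoh
import Groth.Agent.CechX.TildeCech

/-!
The sections of `M~` on `D(g) ⊆ Spec A` are the direct sum of those of the `M(n)~` on `D₊(g)`.
-/

set_option autoImplicit false
set_option backward.isDefEq.respectTransparency false
set_option maxHeartbeats 1000000

namespace Groth.Agent.CechGr

universe u

open CategoryTheory DirectSum TopologicalSpace AlgebraicGeometry Opposite Groth.Agent.CechX GrT

noncomputable section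

variable {R A : Type u} [CommRing R] [CommRing A] [Algebra R A] (𝒜 : ℕ → Submodule R A)
  [GradedAlgebra 𝒜]
variable {M : Type u} [AddCommGroup M] [Module R M] [Module A M] (ℳ : ℕ → Submodule R M)
variable [DirectSum.Decomposition ℳ] [SetLike.GradedSMul 𝒜 ℳ]

variable (M) in
/-- Sections of `M~` on the spectrum. -/
abbrev SecM (V : (SpecA A).Opens) : Type u :=
  ((modulesSpecToSheaf.obj (tilde (R := CommRingCat.of A) (ModuleCat.of A M))).obj.obj (op V) : ModuleCat A)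

/-- From `M` to the sections. -/
abbrev toM (V : (SpecA A).Opens) : M →ₗ[A] SecM M V :=
  (tilde.toOpen (R := CommRingCat.of A) (ModuleCat.of A M) V).hom

/-- Restriction of sections on the spectrum. -/
abbrev resM {V V' : (SpecA A).Opens} (h : V' ≤ V) : SecM M V →ₗ[A] SecM M V' :=
  ((modulesSpecToSheaf.obj (tilde (R := CommRingCat.of A) (ModuleCat.of A M))).obj.map (homOfLE h).op).hom

theorem resM_toM {V V' : (SpecA A).Opens} (h : V' ≤ V) (m : M) : resM h (toM V m) = toM V' m :=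
  congrArg (fun φ => φ.hom m) (tilde.toOpen_res (R := CommRingCat.of A) (ModuleCat.of A M) V V' (homOfLE h))

/-- Sections of `M(n)~` on the homogeneous spectrum. -/
abbrev SecN (n : ℤ) (W : (Proj 𝒜).Opens) : Type u := ((GrTilde.tildePre 𝒜 ℳ n).obj (op W) : AddCommGrpCat.{u})

variable {g : A} {V : (SpecA A).Opens} (hV : V = Dop g)

include hV in
theorem pow_smul_bijective (k : ℕ) : Function.Bijective fun y : SecM M V => g ^ k • y := by
  induction k with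
  | zero => simp only [pow_zero, one_smul]; exact Function.bijective_id
  | succ k ih =>
    have : (fun y : SecM M V => g ^ (k + 1) • y) = (fun y => g ^ k • y) ∘ fun y => g • y :=
      funext fun y => by rw [Function.comp_apply, pow_succ, mul_smul]
    rw [this]
    exact ih.comp (bijective_smul_sections (S := CommRingCat.of A) _ V g hV.le)

include hV in
theorem toM_eq_zero {m : M} (h : toM V m = 0) : ∃ N : ℕ, g ^ N • m = 0 := by
  subst hV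
  haveI := isLocalizedModule_toOpen (S := CommRingCat.of A) (ModuleCat.of A M) g
  obtain ⟨⟨_, N, rfl⟩, hc⟩ := (IsLocalizedModule.eq_zero_iff (Submonoid.powers g)
    (tilde.toOpen (R := CommRingCat.of A) (ModuleCat.of A M) (Dop g)).hom).1 h
  exact ⟨N, hc⟩

include hV in
theorem exists_toM_eq (y : SecM M V) : ∃ (k : ℕ) (m : M), g ^ k • y = toM V m := by
  subst hV
  haveI := isLocalizedModule_toOpen (S := CommRingCat.of A) (ModuleCat.of A M) g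
  obtain ⟨⟨m, ⟨_, k, rfl⟩⟩, hm⟩ := IsLocalizedModule.surj (Submonoid.powers g)
    (tilde.toOpen (R := CommRingCat.of A) (ModuleCat.of A M) (Dop g)).hom y
  exact ⟨k, m, hm⟩

variable {D : ℕ} (hD : 0 < D) (hg : g ∈ 𝒜 D) {W : (Proj 𝒜).Opens} (hW : W = Proj.basicOpen 𝒜 g)

include hW in
omit [DirectSum.Decomposition ℳ] [SetLike.GradedSMul 𝒜 ℳ] in
theorem not_mem_g (x : W) : g ∉ x.1.asHomogeneousIdeal :=
  (ProjectiveSpectrum.mem_basicOpen 𝒜 g x.1).mp (hW.le x.2)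

variable (g D) in
/-- The section `s` is the fraction `m / g ^ k`. -/
def IsRep (n : ℤ) (s : GrTilde.sect 𝒜 ℳ n (op W)) (k : ℕ) (m : M) : Prop :=
  ∃ i : ℕ, (i : ℤ) = k * D + n ∧ m ∈ ℳ i ∧
    ∀ (x : W) (hx : g ^ k ∉ x.1.asHomogeneousIdeal), (s.1 x).1 = fr 𝒜 x.1 m (g ^ k) hx

variable {n : ℤ}

include hg in
omit [DirectSum.Decomposition ℳ] in
theorem IsRep.lift {s : GrTilde.sect 𝒜 ℳ n (op W)} {k : ℕ} {m : M} (h : IsRep 𝒜 ℳ g D n s k m) (l : ℕ) :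
    IsRep 𝒜 ℳ g D n s (l + k) (g ^ l • m) := by
  obtain ⟨i, hi, hm, hx⟩ := h
  refine ⟨l * D + i, by push_cast; linarith, smul_mem_graded 𝒜 ℳ (SetLike.pow_mem_graded l hg) hm,
    fun x hx' => ?_⟩
  have hk : g ^ k ∉ x.1.asHomogeneousIdeal := right_not_mem 𝒜 (a := g ^ l) (by rwa [← pow_add])
  rw [hx x hk]
  exact fr_congr 𝒜 x.1 _ _ (by rw [smul_smul, pow_add, mul_comm])

include hg hW hD in
theorem exists_rep (s : GrTilde.sect 𝒜 ℳ n (op W)) : ∃ k m, IsRep 𝒜 ℳ g D n s k m := by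
  subst hW
  obtain ⟨k, i, m, hi, hm, hx⟩ := exists_frac_basicOpen 𝒜 ℳ n hD hg s
  exact ⟨k, m, i, hi, hm, hx⟩

include hV hg hW hD in
theorem rep_unique {s : GrTilde.sect 𝒜 ℳ n (op W)} {k k' : ℕ} {m m' : M}
    (h : IsRep 𝒜 ℳ g D n s k m) (h' : IsRep 𝒜 ℳ g D n s k' m') :
    g ^ k' • toM V m = g ^ k • toM V m' := by
  obtain ⟨i, hi, hm, hx⟩ := h
  obtain ⟨i', hi', hm', hx'⟩ := h'
  have hz : g ^ k' • m - g ^ k • m' ∈ ℳ (k' * D + i) := by
    refine sub_mem (smul_mem_graded 𝒜 ℳ (SetLike.pow_mem_graded k' hg) hm) ?_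
    have e : k * D + i' = k' * D + i := by
      have : ((k * D + i' : ℕ) : ℤ) = ((k' * D + i : ℕ) : ℤ) := by push_cast; linarith
      exact_mod_cast this
    exact e ▸ smul_mem_graded 𝒜 ℳ (SetLike.pow_mem_graded k hg) hm'
  obtain ⟨N, hN⟩ := exists_pow_smul_eq_zero 𝒜 ℳ hz hD hg fun x hxg => by
    let q : W := ⟨x, hW.ge ((ProjectiveSpectrum.mem_basicOpen 𝒜 g x).mpr hxg)⟩
    exact (fr_eq_iff 𝒜 x (not_mem_pow 𝒜 hxg k) (not_mem_pow 𝒜 hxg k')).mp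
      ((hx q (not_mem_pow 𝒜 hxg k)).symm.trans (hx' q (not_mem_pow 𝒜 hxg k')))
  refine (pow_smul_bijective hV N).1 ?_
  have := congrArg (toM V) hN
  rw [map_smul, map_sub, map_smul, map_smul, map_zero, smul_sub, sub_eq_zero] at this
  exact this

include hV hg hW hD in
theorem exists_phi (s : GrTilde.sect 𝒜 ℳ n (op W)) :
    ∃ y : SecM M V, ∀ k m, IsRep 𝒜 ℳ g D n s k m → g ^ k • y = toM V m := by
  obtain ⟨k₀, m₀, h₀⟩ := exists_rep 𝒜 ℳ hD hg hW s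
  obtain ⟨y, hy⟩ := (pow_smul_bijective hV k₀).2 (toM V m₀)
  refine ⟨y, fun k m h => (pow_smul_bijective hV k₀).1 ?_⟩
  show g ^ k₀ • g ^ k • y = g ^ k₀ • toM V m
  rw [smul_comm, show g ^ k₀ • y = toM V m₀ from hy]
  exact rep_unique 𝒜 ℳ hV hD hg hW h₀ h

/-- The comparison. -/
def phiFun (s : GrTilde.sect 𝒜 ℳ n (op W)) : SecM M V :=
  (exists_phi 𝒜 ℳ hV hD hg hW s).choose

theorem phiFun_spec {s : GrTilde.sect 𝒜 ℳ n (op W)} {k : ℕ} {m : M} (h : IsRep 𝒜 ℳ g D n s k m) :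
    g ^ k • phiFun 𝒜 ℳ hV hD hg hW s = toM V m :=
  (exists_phi 𝒜 ℳ hV hD hg hW s).choose_spec k m h

include hg hD hW in
theorem exists_rep_ge (s : GrTilde.sect 𝒜 ℳ n (op W)) :
    ∃ k₀, ∀ k, k₀ ≤ k → ∃ m, IsRep 𝒜 ℳ g D n s k m := by
  obtain ⟨k₀, m, h⟩ := exists_rep 𝒜 ℳ hD hg hW s
  refine ⟨k₀, fun k hk => ⟨g ^ (k - k₀) • m, ?_⟩⟩
  have := h.lift 𝒜 ℳ hg (k - k₀)
  rwa [Nat.sub_add_cancel hk] at this

omit [DirectSum.Decomposition ℳ] in
theorem IsRep.add {s t : GrTilde.sect 𝒜 ℳ n (op W)} {k : ℕ} {a b : M}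
    (ha : IsRep 𝒜 ℳ g D n s k a) (hb : IsRep 𝒜 ℳ g D n t k b) : IsRep 𝒜 ℳ g D n (s + t) k (a + b) := by
  obtain ⟨i, hi, hm, hx⟩ := ha
  obtain ⟨i', hi', hm', hx'⟩ := hb
  obtain rfl : i = i' := by omega
  refine ⟨i, hi, add_mem hm hm', fun x hxg => ?_⟩
  show (s.1 x).1 + (t.1 x).1 = _
  rw [hx x hxg, hx' x hxg, fr_add]
  exact fr_congr 𝒜 x.1 _ _ (by rw [← smul_add, mul_smul])

theorem phiFun_add (s t : SecN 𝒜 ℳ n W) :
    phiFun 𝒜 ℳ hV hD hg hW (s + t) = phiFun 𝒜 ℳ hV hD hg hW s + phiFun 𝒜 ℳ hV hD hg hW t := by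
  obtain ⟨k₁, h₁⟩ := exists_rep_ge 𝒜 ℳ hD hg hW s
  obtain ⟨k₂, h₂⟩ := exists_rep_ge 𝒜 ℳ hD hg hW t
  obtain ⟨a, ha⟩ := h₁ (k₁ + k₂) (Nat.le_add_right _ _)
  obtain ⟨b, hb⟩ := h₂ (k₁ + k₂) (Nat.le_add_left _ _)
  apply (pow_smul_bijective hV (k₁ + k₂)).1
  beta_reduce
  rw [smul_add, phiFun_spec 𝒜 ℳ hV hD hg hW ha, phiFun_spec 𝒜 ℳ hV hD hg hW hb,
    phiFun_spec 𝒜 ℳ hV hD hg hW (ha.add 𝒜 ℳ hb), map_add]

/-- The comparison map. -/
def phi (n : ℤ) : SecN 𝒜 ℳ n W →+ SecM M V :=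
  AddMonoidHom.mk' (phiFun (n := n) 𝒜 ℳ hV hD hg hW) (phiFun_add (n := n) 𝒜 ℳ hV hD hg hW)

theorem phi_spec {s : GrTilde.sect 𝒜 ℳ n (op W)} {k : ℕ} {m : M} (h : IsRep 𝒜 ℳ g D n s k m) :
    g ^ k • phi 𝒜 ℳ hV hD hg hW n s = toM V m :=
  phiFun_spec 𝒜 ℳ hV hD hg hW h

/-- Naturality for `D₊(g h) ⊆ D₊(g)`. -/
theorem phi_res {h : A} {E : ℕ} (hh : h ∈ 𝒜 E) {V' : (SpecA A).Opens} (hV' : V' = Dop (g * h))
    {W' : (Proj 𝒜).Opens} (hW' : W' = Proj.basicOpen 𝒜 (g * h)) (hWW : W' ≤ W) (hVV : V' ≤ V)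
    {D' : ℕ} (hD' : 0 < D') (hg' : g * h ∈ 𝒜 D') (hDD : D' = D + E) (s : SecN 𝒜 ℳ n W) :
    phi 𝒜 ℳ hV' hD' hg' hW' n (((GrTilde.tildePre 𝒜 ℳ n).map (homOfLE hWW).op).hom s) = resM hVV (phi 𝒜 ℳ hV hD hg hW n s) := by
  obtain ⟨k, m, hkm⟩ := exists_rep 𝒜 ℳ hD hg hW s
  obtain ⟨i, hi, hm, hx⟩ := hkm
  have hr : IsRep 𝒜 ℳ (g * h) D' n (((GrTilde.tildePre 𝒜 ℳ n).map (homOfLE hWW).op).hom s) k (h ^ k • m) := by
    refine ⟨k * E + i, by subst hDD; push_cast; linarith, smul_mem_graded 𝒜 ℳ (SetLike.pow_mem_graded k hh) hm,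
      fun x hxg => ?_⟩
    have hk : g ^ k ∉ x.1.asHomogeneousIdeal := left_not_mem 𝒜 (b := h ^ k) (by rwa [← mul_pow])
    show (s.1 ⟨x.1, hWW x.2⟩).1 = _
    rw [hx ⟨x.1, hWW x.2⟩ hk]
    exact fr_congr 𝒜 x.1 _ _ (by rw [mul_pow, mul_smul])
  refine (pow_smul_bijective hV' k).1 ?_
  show (g * h) ^ k • _ = (g * h) ^ k • _
  rw [phi_spec 𝒜 ℳ hV' hD' hg' hW' hr, map_smul, mul_comm g h, mul_pow, mul_smul,
    ← map_smul (resM hVV),
    phi_spec 𝒜 ℳ hV hD hg hW ⟨i, hi, hm, hx⟩, resM_toM]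

/-- The sum over all twists. -/
def phiSum : (⨁ n : ℤ, SecN 𝒜 ℳ n W) →+ SecM M V :=
  DirectSum.toAddMonoid fun n => phi 𝒜 ℳ hV hD hg hW n

theorem phiSum_surjective : Function.Surjective (phiSum 𝒜 ℳ hV hD hg hW) := by
  classical
  intro y
  obtain ⟨k, m, hm⟩ := exists_toM_eq hV y
  let c : ℕ → ⨁ n : ℤ, SecN 𝒜 ℳ n W := fun i =>
    DirectSum.of (fun n => SecN 𝒜 ℳ n W) ((i : ℤ) - k * D)
      (fracSect 𝒜 ℳ ((i : ℤ) - k * D) (decompose ℳ m i).2 (SetLike.pow_mem_graded k hg)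
        (by simp only [smul_eq_mul]; push_cast; ring) W fun x => not_mem_pow 𝒜 (not_mem_g 𝒜 hW x) k)
  refine ⟨∑ i ∈ (decompose ℳ m).support, c i, (pow_smul_bijective hV k).1 ?_⟩
  show g ^ k • _ = g ^ k • y
  rw [hm, map_sum, Finset.smul_sum]
  conv_rhs => rw [← sum_support_decompose ℳ m, map_sum]
  refine Finset.sum_congr rfl fun i _ => ?_
  rw [phiSum, DirectSum.toAddMonoid_of]
  exact phi_spec 𝒜 ℳ hV hD hg hW ⟨i, by ring, (decompose ℳ m i).2, fun x hx => rfl⟩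

theorem phiSum_injective : Function.Injective (phiSum 𝒜 ℳ hV hD hg hW) := by
  classical
  refine (injective_iff_map_eq_zero _).2 fun c hc => ?_
  choose k₀ hk₀ using fun n : ℤ => exists_rep_ge 𝒜 ℳ hD hg hW (c n)
  let K := c.support.sup k₀
  have hK : ∀ n ∈ c.support, ∃ m, IsRep 𝒜 ℳ g D n (c n) K m := fun n hn => hk₀ n K (Finset.le_sup hn)
  choose! m hm using hK
  have h0 : toM V (∑ n ∈ c.support, m n) = 0 := by
    rw [← smul_zero (g ^ K), ← hc]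
    conv_rhs => rw [← DirectSum.sum_support_of c]
    rw [map_sum, map_sum, Finset.smul_sum]
    refine Finset.sum_congr rfl fun n hn => ?_
    rw [phiSum, DirectSum.toAddMonoid_of, phi_spec 𝒜 ℳ hV hD hg hW (hm n hn)]
  obtain ⟨N, hN⟩ := toM_eq_zero hV h0
  rw [Finset.smul_sum] at hN
  refine DFinsupp.ext fun n => ?_
  by_cases hn : n ∈ c.support
  swap
  · exact DFinsupp.notMem_support_iff.1 hn
  obtain ⟨i, hi, hmi, hx⟩ := hm n hn
  have hz : g ^ N • m n = 0 := by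
    let π : M →+ M := AddMonoidHom.mk' (fun z => ((decompose ℳ z (N • D + i) : ℳ (N • D + i)) : M))
      fun a b => by rw [decompose_add, DirectSum.add_apply, Submodule.coe_add]
    have h1 := congrArg π hN
    simp only [map_sum, map_zero, π, AddMonoidHom.mk'_apply] at h1
    rw [Finset.sum_eq_single_of_mem n hn fun b hb hbn => ?_] at h1
    · rwa [decompose_of_mem_same ℳ (smul_mem_graded 𝒜 ℳ (SetLike.pow_mem_graded N hg) hmi)] at h1
    · obtain ⟨j, hj, hmj, -⟩ := hm b hb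
      refine decompose_of_mem_ne ℳ (smul_mem_graded 𝒜 ℳ (SetLike.pow_mem_graded N hg) hmj) fun e => hbn ?_
      have : j = i := Nat.add_left_cancel e
      omega
  refine sect_ext 𝒜 ℳ fun x => ?_
  have hxg := not_mem_g 𝒜 hW x
  rw [hx x (not_mem_pow 𝒜 hxg K)]
  exact (fr_eq_zero_iff 𝒜 x.1 _).mpr ⟨g ^ N, not_mem_pow 𝒜 hxg N, hz⟩

theorem phiSum_bijective : Function.Bijective (phiSum 𝒜 ℳ hV hD hg hW) :=
  ⟨phiSum_injective 𝒜 ℳ hV hD hg hW, phiSum_surjective 𝒜 ℳ hV hD hg hW⟩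

end

end Groth.Agent.CechGr
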