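import Groth.Agent.CechGr.Sum
import Groth.Agent.CechGr.Sect
import Groth.Agent.CechX.BasicOpens

/-!
The Čech complex of `D(f_i) ⊆ Spec A` is the sum over the twists of that of `D₊(f_i) ⊆ Proj 𝒜`.
-/

set_option autoImplicit false
set_option backward.isDefEq.respectTransparency false
set_option maxHeartbeats 800000

namespace Groth.Agent.CechGr

universe u

open CategoryTheory CategoryTheory.Limits DirectSum TopologicalSpace AlgebraicGeometry Opposite
open Groth.Agent.CechX Groth.Agent.SiteCoh GrT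

noncomputable section

variable {R A : Type u} [CommRing R] [CommRing A] [Algebra R A] (𝒜 : ℕ → Submodule R A)
  [GradedAlgebra 𝒜]

theorem iInf_Dop {n : ℕ} (g : Fin (n + 1) → A) : (⨅ k, Dop (g k)) = Dop (∏ k, g k) := by
  induction n with
  | zero => simp
  | succ n ih =>
    rw [Fin.prod_univ_succ, Dop_mul, ← ih]
    refine le_antisymm (le_inf (iInf_le _ 0) (le_iInf fun k => iInf_le _ _)) (le_iInf fun k => ?_)
    exact Fin.cases inf_le_left (fun j => inf_le_right.trans (iInf_le _ j)) k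

theorem iInf_basicOpen {n : ℕ} (g : Fin (n + 1) → A) :
    (⨅ k, Proj.basicOpen 𝒜 (g k)) = Proj.basicOpen 𝒜 (∏ k, g k) := by
  induction n with
  | zero => simp
  | succ n ih =>
    rw [Fin.prod_univ_succ, Proj.basicOpen_mul, ← ih]
    refine le_antisymm (le_inf (iInf_le _ 0) (le_iInf fun k => iInf_le _ _)) (le_iInf fun k => ?_)
    exact Fin.cases inf_le_left (fun j => inf_le_right.trans (iInf_le _ j)) k

variable {M : Type u} [AddCommGroup M] [Module R M] [Module A M] (ℳ : ℕ → Submodule R M)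
variable [DirectSum.Decomposition ℳ] [SetLike.GradedSMul 𝒜 ℳ]

section Pi

variable {ι : Type*} [DecidableEq ι] {κ : Type*} [Finite κ] {X : ι → κ → Type*} [∀ n a, AddCommGroup (X n a)]
  {Y : κ → Type*} [∀ a, AddCommGroup (Y a)] (φ : ∀ n a, X n a →+ Y a)

/-- The comparison of products. -/
def sumPi : (⨁ n, ∀ a, X n a) →+ ∀ a, Y a :=
  DirectSum.toAddMonoid fun n => AddMonoidHom.mk' (fun x a => φ n a (x a))
    fun _ _ => funext fun _ => map_add _ _ _

theorem sumPi_apply (c : ⨁ n, ∀ a, X n a) (a : κ) :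
    sumPi φ c a = DirectSum.toAddMonoid (fun n => φ n a)
      (DirectSum.map (fun n => Pi.evalAddMonoidHom (X n) a) c) := by
  induction c using DirectSum.induction_on with
  | zero => simp
  | of n x => simp [sumPi]
  | add u v hu hv => simp [hu, hv]

/-- Finite products commute with direct sums. -/
theorem sumPi_bijective (h : ∀ a, Function.Bijective (DirectSum.toAddMonoid fun n => φ n a)) :
    Function.Bijective (sumPi φ) := by
  classical
  haveI := Fintype.ofFinite κ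
  refine ⟨(injective_iff_map_eq_zero _).2 fun c hc => ?_, fun y => ?_⟩
  · refine DFinsupp.ext fun n => funext fun a => ?_
    have e : DirectSum.map (fun n => Pi.evalAddMonoidHom (X n) a) c = 0 :=
      (h a).1 (by rw [← sumPi_apply, hc, map_zero]; rfl)
    have en := DFunLike.congr_fun e n
    rw [DirectSum.map_apply] at en
    exact en
  · choose b hb using fun a => (h a).2 (y a)
    refine ⟨∑ a, DirectSum.map (fun n => AddMonoidHom.single (X n) a) (b a), funext fun a' => ?_⟩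
    rw [map_sum, Finset.sum_apply, Finset.sum_eq_single a']
    · rw [← hb a', sumPi_apply]
      congr 1
      refine DFinsupp.ext fun n => ?_
      rw [DirectSum.map_apply, DirectSum.map_apply]
      exact Pi.single_eq_same a' _
    · intro a _ hne
      rw [sumPi_apply]
      refine (congrArg _ (DFinsupp.ext fun n => ?_)).trans (map_zero _)
      rw [DirectSum.map_apply, DirectSum.map_apply]
      exact Pi.single_eq_of_ne (Ne.symm hne) _
    · simp

end Pi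

theorem phi_res' {g g' h : A} {D D' E : ℕ} (e : g' = g * h) (hh : h ∈ 𝒜 E) (hD : 0 < D) (hg : g ∈ 𝒜 D)
    {V V' : (SpecA A).Opens} (hV : V = Dop g) (hV' : V' = Dop g')
    {W W' : (Proj 𝒜).Opens} (hW : W = Proj.basicOpen 𝒜 g) (hW' : W' = Proj.basicOpen 𝒜 g')
    (hWW : W' ≤ W) (hVV : V' ≤ V) (hD' : 0 < D') (hg' : g' ∈ 𝒜 D') (hDD : D' = D + E) (n : ℤ)
    (s : SecN 𝒜 ℳ n W) :
    phi 𝒜 ℳ hV' hD' hg' hW' n (((GrTilde.tildePre 𝒜 ℳ n).map (homOfLE hWW).op).hom s) =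
      resM hVV (phi 𝒜 ℳ hV hD hg hW n s) := by
  subst e
  exact phi_res 𝒜 ℳ hV hD hg hW hh hV' hW' hWW hVV hD' hg' hDD s

section Cech

variable {r : ℕ} (f : ULift.{u} (Fin r) → A) (d : ULift.{u} (Fin r) → ℕ) (hd : ∀ i, 0 < d i) (hf : ∀ i, f i ∈ 𝒜 (d i))

/-- The cover downstairs. -/
abbrev UP : ULift.{u} (Fin r) → (Proj 𝒜).Opens := fun i => Proj.basicOpen 𝒜 (f i)

/-- The cover upstairs. -/
abbrev US : ULift.{u} (Fin r) → (SpecA A).Opens := fun i => Dop (f i)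

theorem tupleUP {q : ℕ} (a : Fin (q + 1) → ULift.{u} (Fin r)) :
    tupleProd (UP 𝒜 f) a = Proj.basicOpen 𝒜 (∏ k, f (a k)) :=
  (tupleProd_eq_iInf _ a).trans (iInf_basicOpen 𝒜 fun k => f (a k))

theorem tupleUS {q : ℕ} (a : Fin (q + 1) → ULift.{u} (Fin r)) :
    tupleProd (US f) a = Dop (∏ k, f (a k)) :=
  (tupleProd_eq_iInf _ a).trans (iInf_Dop fun k => f (a k))

include hd in
theorem sum_pos' {q : ℕ} (a : Fin (q + 1) → ULift.{u} (Fin r)) : 0 < ∑ k, d (a k) :=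
  Finset.sum_pos (fun k _ => hd (a k)) Finset.univ_nonempty

include hf in
theorem prod_mem {q : ℕ} (a : Fin (q + 1) → ULift.{u} (Fin r)) : (∏ k, f (a k)) ∈ 𝒜 (∑ k, d (a k)) :=
  SetLike.prod_mem_graded _ _ _ fun k _ => hf (a k)

/-- The presheaf downstairs. -/
abbrev PN (n : ℤ) : ((Proj 𝒜).Opens)ᵒᵖ ⥤ AddCommGrpCat.{u} := res' (𝟭 _) (Coh.toAb (GrTilde.tilde 𝒜 ℳ n))

variable (M) in
/-- The presheaf upstairs. -/
abbrev PM : ((SpecA A).Opens)ᵒᵖ ⥤ AddCommGrpCat.{u} :=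
  res' (𝟭 _) (Coh.toAb (tilde (R := CommRingCat.of A) (ModuleCat.of A M)))

/-- The comparison on one tuple. -/
def phiA (n : ℤ) {q : ℕ} (a : Fin (q + 1) → ULift.{u} (Fin r)) :
    ((PN 𝒜 ℳ n).obj (op (tupleProd (UP 𝒜 f) a)) : Type u) →+ ((PM M).obj (op (tupleProd (US f) a)) : Type u) :=
  phi 𝒜 ℳ (tupleUS f a) (sum_pos' d hd a) (prod_mem 𝒜 f d hf a) (tupleUP 𝒜 f a) n

theorem phiA_res (n : ℤ) {q : ℕ} (a : Fin (q + 2) → ULift.{u} (Fin r)) (k : Fin (q + 2))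
    (s : (PN 𝒜 ℳ n).obj (op (tupleProd (UP 𝒜 f) (a ∘ k.succAbove)))) :
    phiA 𝒜 ℳ f d hd hf n a ((PN 𝒜 ℳ n).map (tupleDrop (UP 𝒜 f) a k).op s) =
      (PM M).map (tupleDrop (US f) a k).op (phiA 𝒜 ℳ f d hd hf n (a ∘ k.succAbove) s) := by
  refine phi_res' 𝒜 ℳ (h := f (a k)) (E := d (a k)) ?_ (hf (a k)) _ _ _ _ _ _
    (leOfHom (tupleDrop (UP 𝒜 f) a k)) (leOfHom (tupleDrop (US f) a k)) _ _ ?_ n s
  · rw [Fin.prod_univ_succAbove (fun j => f (a j)) k, mul_comm]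
    rfl
  · rw [Fin.sum_univ_succAbove (fun j => d (a j)) k, add_comm]
    rfl

/-- The comparison on cochains. -/
def phiX (n : ℤ) (q : ℕ) :
    ((cechCx (UP 𝒜 f) (PN 𝒜 ℳ n)).X q : Type u) →+ ((cechCx (US f) (PM M)).X q : Type u) :=
  (cochainEquiv (US f) (PM M) q).symm.toAddMonoidHom.comp
    ((AddMonoidHom.mk' (fun (x : Cochain (UP 𝒜 f) (PN 𝒜 ℳ n) q) a => phiA 𝒜 ℳ f d hd hf n a (x a))
      fun _ _ => funext fun _ => map_add _ _ _).comp (cochainEquiv (UP 𝒜 f) (PN 𝒜 ℳ n) q).toAddMonoidHom)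

/-- The comparison of Čech complexes. -/
def phiC (n : ℤ) : cechCx (UP 𝒜 f) (PN 𝒜 ℳ n) ⟶ cechCx (US f) (PM M) where
  f q := AddCommGrpCat.ofHom (phiX 𝒜 ℳ f d hd hf n q)
  comm' := by
    rintro q _ (rfl : q + 1 = _)
    ext x
    refine (cochainEquiv (US f) (PM M) (q + 1)).injective ?_
    show cochainEquiv (US f) (PM M) (q + 1) ((cechCx (US f) (PM M)).d q (q + 1) (phiX 𝒜 ℳ f d hd hf n q x)) =
      cochainEquiv (US f) (PM M) (q + 1)
        (phiX 𝒜 ℳ f d hd hf n (q + 1) ((cechCx (UP 𝒜 f) (PN 𝒜 ℳ n)).d q (q + 1) x))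
    rw [cochainEquiv_d]
    simp only [phiX, AddMonoidHom.coe_comp, AddEquiv.coe_toAddMonoidHom, Function.comp_apply,
      AddEquiv.apply_symm_apply, cochainEquiv_d, AddMonoidHom.mk'_apply]
    funext a
    rw [cd_sum, cd_sum, map_sum]
    refine Finset.sum_congr rfl fun k _ => ?_
    rw [map_zsmul, phiA_res]

theorem sumX_phiC_bijective (q : ℕ) :
    Function.Bijective (sumX _ (phiC 𝒜 ℳ f d hd hf) q) := by
  have hb : Function.Bijective (sumPi fun (n : ℤ) (a : Fin (q + 1) → ULift.{u} (Fin r)) =>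
      phiA 𝒜 ℳ f d hd hf n a) :=
    sumPi_bijective _ fun a => phiSum_bijective 𝒜 ℳ _ _ _ _
  let E : (⨁ n : ℤ, ((cechCx (UP 𝒜 f) (PN 𝒜 ℳ n)).X q : Type u)) ≃+
      ⨁ n : ℤ, Cochain (UP 𝒜 f) (PN 𝒜 ℳ n) q :=
    DFinsupp.mapRange.addEquiv fun n => cochainEquiv (UP 𝒜 f) (PN 𝒜 ℳ n) q
  have e : ∀ c, sumX _ (phiC 𝒜 ℳ f d hd hf) q c =
      (cochainEquiv (US f) (PM M) q).symm (sumPi (fun n a => phiA 𝒜 ℳ f d hd hf n a) (E c)) := by
    intro c
    induction c using DirectSum.induction_on with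
    | zero =>
      refine (map_zero _).trans (Eq.symm ?_)
      exact (congrArg _ ((congrArg _ (map_zero E)).trans (map_zero _))).trans (map_zero _)
    | of n x =>
      have eE : E (DirectSum.of (fun n => ((cechCx (UP 𝒜 f) (PN 𝒜 ℳ n)).X q : Type u)) n x) =
          DirectSum.of (fun n => Cochain (UP 𝒜 f) (PN 𝒜 ℳ n) q) n (cochainEquiv _ _ q x) :=
        DFinsupp.mapRange_single (hf := fun n => map_zero _)
      rw [eE]
      simp only [sumX, sumPi, DirectSum.toAddMonoid_of]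
      rfl
    | add a b ha hb => simp only [map_add, ha, hb]
  rw [show ⇑(sumX _ (phiC 𝒜 ℳ f d hd hf) q) = _ from funext e]
  exact ((cochainEquiv (US f) (PM M) q).symm.bijective.comp hb).comp E.bijective

end Cech

theorem main [IsScalarTower R A M] (fs : List A) (hfs : ∀ a ∈ fs, ∃ d : ℕ, 0 < d ∧ a ∈ 𝒜 d) (p : ℕ) (hp : 1 ≤ p) :
    Nonempty (DirectSum ℤ (fun n : ℤ => Coh.HHon (Proj 𝒜) (GrTilde.tilde 𝒜 ℳ n)
        (⨆ i : Fin fs.length, Proj.basicOpen 𝒜 (fs.get i)) p) ≃+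
      CohIII.koszulHLim fs (ModuleCat.of A M) (p + 1)) := by
  obtain ⟨q, rfl⟩ := Nat.exists_eq_add_of_le' hp
  choose d hd hf using fun i : ULift.{u} (Fin fs.length) => hfs (fs.get i.down) (List.get_mem fs _)
  set f : ULift.{u} (Fin fs.length) → A := fun i => fs.get i.down
  obtain ⟨eS⟩ := nonempty_homology_equiv _ (phiC 𝒜 ℳ f d hd hf) (sumX_phiC_bijective 𝒜 ℳ f d hd hf) (q + 1)
  -- the affine side
  obtain ⟨e₃⟩ := CohQC.cech_equiv_affine (tilde (R := CommRingCat.of A) (ModuleCat.of A M)) (US f)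
    (fun n a => isAffineOpen_iInf_Dop fun k => f (a k)) (q + 1)
  have hU : iSup (US f) = LocCoh.puncturedOpen A (Ideal.span {a | a ∈ fs}) :=
    (Equiv.ulift.iSup_comp (g := fun i : Fin fs.length => Dop (fs.get i))).trans (puncturedOpen_eq_iSup fs).symm
  obtain ⟨e₅⟩ := nonempty_HZM_equiv (ModuleCat.of A M) fs (q + 1 + 1)
  rw [hU] at e₃
  -- the projective side
  have hn : ∀ n : ℤ, Nonempty (Coh.HHon (Proj 𝒜) (GrTilde.tilde 𝒜 ℳ n)
      (⨆ i : Fin fs.length, Proj.basicOpen 𝒜 (fs.get i)) (q + 1) ≃+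
      ((cechCx (UP 𝒜 f) (PN 𝒜 ℳ n)).homology (q + 1) : Type u)) := fun n => by
    haveI : (GrTilde.tilde 𝒜 ℳ n).IsQuasicoherent := GrT.isQCoh_tilde 𝒜 ℳ n
    obtain ⟨e⟩ := CohQC.cech_equiv_affine (GrTilde.tilde 𝒜 ℳ n) (UP 𝒜 f) (fun m a => by
      rw [iInf_basicOpen 𝒜 fun k => f (a k)]
      exact ProjLib.isAffineOpen_basicOpen 𝒜 (prod_mem 𝒜 f d hf a) (sum_pos' d hd a)) (q + 1)
    have hP : iSup (UP 𝒜 f) = ⨆ i : Fin fs.length, Proj.basicOpen 𝒜 (fs.get i) :=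
      Equiv.ulift.iSup_comp (g := fun i : Fin fs.length => Proj.basicOpen 𝒜 (fs.get i))
    rw [hP] at e
    obtain ⟨h⟩ := CohQC.hu_restrict (GrTilde.tilde 𝒜 ℳ n) (⨆ i : Fin fs.length, Proj.basicOpen 𝒜 (fs.get i)) (q + 1)
    exact ⟨h.symm.trans e.symm⟩
  exact ⟨(DFinsupp.mapRange.addEquiv fun n => (hn n).some).trans (eS.trans (e₃.trans
    ((AddEquiv.ofBijective _ (delta_bijective le_top (q + 1) (subsingleton_HU_top _ q)
      (subsingleton_HU_top _ (q + 1)))).trans e₅.symm)))⟩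

end

end Groth.Agent.CechGr
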