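import Mathlib

/-!
Cohomology of a complex which is degreewise the direct sum of other complexes.
-/

set_option autoImplicit false

namespace Groth.Agent.CechGr

universe u v

open CategoryTheory DirectSum

variable {ι : Type v} [DecidableEq ι] (C : ι → CochainComplex AddCommGrpCat.{u} ℕ)
  {D : CochainComplex AddCommGrpCat.{u} ℕ} (f : ∀ n, C n ⟶ D)

/-- The comparison in one degree. -/
noncomputable def sumX (q : ℕ) : (⨁ n, ((C n).X q : Type u)) →+ (D.X q : Type u) :=
  DirectSum.toAddMonoid fun n => ((f n).f q).hom

theorem sumX_d (q r : ℕ) (w : ⨁ n, ((C n).X q : Type u)) :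
    sumX C f r (DirectSum.map (fun n => ((C n).d q r).hom) w) = D.d q r (sumX C f q w) := by
  induction w using DirectSum.induction_on with
  | zero => simp
  | of n x =>
    simp only [sumX, DirectSum.map_of, DirectSum.toAddMonoid_of]
    exact (ConcreteCategory.congr_hom ((f n).comm q r) x).symm
  | add a b ha hb => simp only [map_add, ha, hb]

theorem exists_iCycles_eq {K : CochainComplex AddCommGrpCat.{u} ℕ} {p : ℕ} {x : K.X p}
    (hx : K.d p (p + 1) x = 0) : ∃ z, K.iCycles p z = x :=
  (ShortComplex.ab_exact_iff (ShortComplex.mk _ _ (K.iCycles_d p (p + 1)))).1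
    (ShortComplex.exact_of_f_is_kernel _ (K.cyclesIsKernel p (p + 1) (by simp))) x hx

theorem homologyπ_eq_zero {K : CochainComplex AddCommGrpCat.{u} ℕ} {p : ℕ} {z : K.cycles p}
    (hz : K.homologyπ p z = 0) :
    ∃ y, K.toCycles ((ComplexShape.up ℕ).prev p) p y = z :=
  (ShortComplex.ab_exact_iff (ShortComplex.mk _ _ (K.toCycles_comp_homologyπ _ p))).1
    (ShortComplex.exact_of_g_is_cokernel _ (K.homologyIsCokernel _ p rfl)) z hz

/-- Cohomology commutes with direct sums of complexes. -/
theorem nonempty_homology_equiv (h : ∀ q, Function.Bijective (sumX C f q)) (p : ℕ) :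
    Nonempty ((⨁ n, ((C n).homology p : Type u)) ≃+ (D.homology p : Type u)) := by
  classical
  let Θ : (⨁ n, ((C n).homology p : Type u)) →+ (D.homology p : Type u) :=
    DirectSum.toAddMonoid fun n => (HomologicalComplex.homologyMap (f n) p).hom
  let Z : (⨁ n, ((C n).cycles p : Type u)) →+ (D.cycles p : Type u) :=
    DirectSum.toAddMonoid fun n => (HomologicalComplex.cyclesMap (f n) p).hom
  have hπ : ∀ z, Θ (DirectSum.map (fun n => ((C n).homologyπ p).hom) z) = D.homologyπ p (Z z) := by
    intro z
    induction z using DirectSum.induction_on with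
    | zero => simp
    | of n x =>
      simp only [Θ, Z, DirectSum.map_of, DirectSum.toAddMonoid_of]
      exact ConcreteCategory.congr_hom (HomologicalComplex.homologyπ_naturality (f n) p) x
    | add a b ha hb => simp only [map_add, ha, hb]
  have hi : ∀ z, D.iCycles p (Z z) = sumX C f p (DirectSum.map (fun n => ((C n).iCycles p).hom) z) := by
    intro z
    induction z using DirectSum.induction_on with
    | zero => simp
    | of n x =>
      simp only [Z, sumX, DirectSum.map_of, DirectSum.toAddMonoid_of]
      exact ConcreteCategory.congr_hom (HomologicalComplex.cyclesMap_i (f n) p) x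
    | add a b ha hb => simp only [map_add, ha, hb]
  have hinj : ∀ (K : CochainComplex AddCommGrpCat.{u} ℕ), Function.Injective (K.iCycles p) := fun K =>
    (AddCommGrpCat.mono_iff_injective _).1 inferInstance
  have hsur : ∀ (K : CochainComplex AddCommGrpCat.{u} ℕ), Function.Surjective (K.homologyπ p) := fun K =>
    (AddCommGrpCat.epi_iff_surjective _).1 inferInstance
  refine ⟨AddEquiv.ofBijective Θ ⟨(injective_iff_map_eq_zero _).2 fun c hc => ?_, fun x => ?_⟩⟩
  · obtain ⟨z, rfl⟩ := (DirectSum.map_surjective fun n => ((C n).homologyπ p).hom).2 (fun n => hsur (C n)) c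
    rw [hπ] at hc
    obtain ⟨y, hy⟩ := homologyπ_eq_zero hc
    revert y
    generalize (ComplexShape.up ℕ).prev p = i
    intro y hy
    obtain ⟨v, rfl⟩ := (h _).2 y
    have e : DirectSum.map (fun n => ((C n).iCycles p).hom) z =
        DirectSum.map (fun n => ((C n).d i p).hom) v := (h p).1 (by
      rw [sumX_d, ← hi, ← hy, ← ConcreteCategory.comp_apply, HomologicalComplex.toCycles_i])
    ext n
    rw [DirectSum.map_apply, DirectSum.zero_apply]
    have en := DFunLike.congr_fun e n
    rw [DirectSum.map_apply, DirectSum.map_apply] at en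
    have : z n = (C n).toCycles i p (v n) := hinj _ (en.trans
      (ConcreteCategory.congr_hom ((C n).toCycles_i i p) (v n)).symm)
    rw [this]
    exact ConcreteCategory.congr_hom ((C n).toCycles_comp_homologyπ i p) (v n)
  · obtain ⟨z, rfl⟩ := hsur D x
    obtain ⟨w, hw⟩ := (h p).2 (D.iCycles p z)
    have hd : ∀ n, (C n).d p (p + 1) (w n) = 0 := fun n => by
      have e : DirectSum.map (fun n => ((C n).d p (p + 1)).hom) w = 0 := (h (p + 1)).1 (by
        rw [sumX_d, hw, map_zero, ← ConcreteCategory.comp_apply, HomologicalComplex.iCycles_d]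
        rfl)
      have en := DFunLike.congr_fun e n
      rw [DirectSum.map_apply, DirectSum.zero_apply] at en
      exact en
    choose zn hzn using fun n => exists_iCycles_eq (hd n)
    let zc : ⨁ n, ((C n).cycles p : Type u) :=
      ∑ n ∈ w.support, DirectSum.of (fun n => ((C n).cycles p : Type u)) n (zn n)
    refine ⟨DirectSum.map (fun n => ((C n).homologyπ p).hom) zc, (hπ zc).trans ?_⟩
    refine congrArg _ (hinj D ?_)
    rw [hi, ← hw]
    refine congrArg _ ?_
    conv_rhs => rw [← DirectSum.sum_support_of w]
    simp only [zc, map_sum, DirectSum.map_of]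
    refine Finset.sum_congr rfl fun n _ => congrArg _ ?_
    exact hzn n

end Groth.Agent.CechGr
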